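import Groth.Agent.DSites.CollColim.Stages
import Groth.Agent.SiteBase.CechInst
import Groth.Agent.SiteBase.Cartan

/-!
# Filtered colimits over a collection of objects with finite covering families
-/

universe u

set_option autoImplicit false
set_option backward.isDefEq.respectTransparency false
set_option backward.isDefEq.respectTransparency.types false

open CategoryTheory CategoryTheory.Limits Opposite

namespace Groth.Agent.DSites.CollColim

variable {C : Type u} [SmallCategory C] [HasPullbacks C] (J : GrothendieckTopology C)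

/-- A collection of objects with a supply of finite covering families. -/
structure Coll where
  B : Set C
  Cov : ∀ (U : C) (ι : Type u), (ι → Over U) → Prop
  h1 : ∀ (U : C) (ι : Type u) (Y : ι → Over U), Cov U ι Y → Finite ι ∧ U ∈ B ∧
      Sieve.ofArrows (fun i => (Y i).left) (fun i => (Y i).hom) ∈ J U ∧
      ∀ (p : ℕ) (a : Fin (p + 1) → ι), (∏ᶜ fun k => Y (a k)).left ∈ B
  h2 : ∀ U ∈ B, ∀ T ∈ J U, ∃ (ι : Type u) (Y : ι → Over U), Cov U ι Y ∧ ∀ i, T.arrows (Y i).hom

variable {J} {I : Type u} [SmallCategory I] [IsFiltered I] {D : I ⥤ Sheaf J AddCommGrpCat.{u}}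

omit [HasPullbacks C] [IsFiltered I] in
/-- Sections of a stage are determined on a covering family. -/
theorem sec_ext (i : I) {V : C} {ι : Type u} {Y : ι → Over V}
    (hY : Sieve.ofArrows (fun k => (Y k).left) (fun k => (Y k).hom) ∈ J V) {a b : sec D i V}
    (h : ∀ k, rs i (Y k).hom a = rs i (Y k).hom b) : a = b := by
  refine (((isSheaf_iff_isSheaf_of_type J _).1 (((sheafCompose J (CategoryTheory.forget AddCommGrpCat.{u})).obj
    (D.obj i)).property)) _ hY).isSeparatedFor.ext fun W w hw => ?_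
  obtain ⟨k, v, hv⟩ := Sieve.ofArrows.exists hw
  subst hv
  have := congrArg (rs i v) (h k)
  simpa [rs] using! this

variable {c : Cocone D} (hc : IsColimit c) (P : Coll J)

include hc in
/-- Injectivity on the collection. -/
theorem exists_tr_zero {U : C} (hU : U ∈ P.B) {i : I} (a : sec D i U) (ha : img c i a = 0) :
    ∃ (j : I) (w : i ⟶ j), tr w a = 0 := by
  obtain ⟨T, hT, hloc⟩ := locally_zero hc a ha
  obtain ⟨ι, Y, hY, hYT⟩ := P.h2 U hU T hT
  obtain ⟨hfin, -, hcov, -⟩ := P.h1 U ι Y hY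
  obtain ⟨j, w, hw⟩ := exists_common (fun k j w => tr w (rs i (Y k).hom a) = 0)
    (fun k j l w v h => by rw [← tr_tr, h]; exact map_zero _) fun k => hloc (Y k).hom (hYT k)
  refine ⟨j, w, sec_ext j hcov fun k => ?_⟩
  rw [← tr_rs, hw k]
  exact (map_zero _).symm

include hc in
/-- Surjectivity on the collection. -/
theorem exists_rep {U : C} (hU : U ∈ P.B) (y : c.pt.obj.obj (op U)) : ∃ (i : I) (a : sec D i U), img c i a = y := by
  obtain ⟨T, hT, hloc⟩ := locally_rep hc y
  obtain ⟨ι, Y, hY, hYT⟩ := P.h2 U hU T hT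
  obtain ⟨hfin, -, hcov, hpair⟩ := P.h1 U ι Y hY
  classical
  cases nonempty_fintype ι
  choose i₀ a₀ ha₀ using fun k => hloc (Y k).hom (hYT k)
  obtain ⟨i, hi⟩ := IsFiltered.sup_objs_exists (Finset.univ.image i₀)
  let a : ∀ k, sec D i (Y k).left := fun k =>
    tr (hi (Finset.mem_image_of_mem i₀ (Finset.mem_univ k))).some (a₀ k)
  have ha : ∀ k, img c i (a k) = (c.pt.obj.map (Y k).hom.op).hom y := fun k => (img_tr c _ _).trans (ha₀ k)
  let π (p : Fin 2 → ι) (e : Fin 2) := Pi.π (fun e => Y (p e)) e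
  obtain ⟨j, w, hw⟩ := exists_common
    (fun (p : Fin 2 → ι) j w => tr w (rs i (π p 0).left (a (p 0))) = tr w (rs i (π p 1).left (a (p 1))))
    (fun p j l w v h => by rw [← tr_tr, h, tr_tr]) fun p => by
      obtain ⟨j, w, hw⟩ := exists_tr_zero hc P (hpair 1 p)
        (rs i (π p 0).left (a (p 0)) - rs i (π p 1).left (a (p 1))) (by
          refine (map_sub _ _ _).trans (sub_eq_zero.2 ?_)
          refine (img_rs c i _ _).trans (Eq.trans ?_ (img_rs c i _ _).symm)
          rw [ha, ha, ← ConcreteCategory.comp_apply, ← ConcreteCategory.comp_apply, ← Functor.map_comp,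
            ← Functor.map_comp, ← op_comp, ← op_comp, Over.w, Over.w])
      exact ⟨j, w, sub_eq_zero.1 ((map_sub _ _ _).symm.trans hw)⟩
  let F := (sheafCompose J (CategoryTheory.forget AddCommGrpCat.{u})).obj (D.obj j)
  have hcompat : Presieve.Arrows.Compatible F.obj (fun k => (Y k).hom) (fun k => tr w (a k)) := by
    intro k l W u v huv
    obtain ⟨m, hm₀, hm₁⟩ := (SiteBase.ctxOver Y).fact ![k, l] u v huv
    have e := congrArg (rs j m) (hw ![k, l])
    rw [tr_rs, tr_rs] at e
    change (D.obj j).obj.map u.op (tr w (a k)) = (D.obj j).obj.map v.op (tr w (a l))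
    have h0 : u = m ≫ (π ![k, l] 0).left := hm₀.symm
    have h1 : v = m ≫ (π ![k, l] 1).left := hm₁.symm
    rw [h0, h1, op_comp, op_comp, Functor.map_comp, Functor.map_comp]
    exact e
  have hsh : Presieve.IsSheafFor F.obj (Presieve.ofArrows (fun k => (Y k).left) (fun k => (Y k).hom)) :=
    (Presieve.isSheafFor_iff_generate _).2 (((isSheaf_iff_isSheaf_of_type J _).1 F.property) _ hcov)
  obtain ⟨b, hb, -⟩ := (Presieve.isSheafFor_arrows_iff _ _).1 hsh _ hcompat
  refine ⟨j, b, ?_⟩
  let G := (sheafCompose J (CategoryTheory.forget AddCommGrpCat.{u})).obj c.pt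
  refine (((isSheaf_iff_isSheaf_of_type J _).1 G.property) _ hcov).isSeparatedFor.ext fun W u hu => ?_
  obtain ⟨k, v, hv⟩ := Sieve.ofArrows.exists hu
  subst hv
  have e : (c.pt.obj.map (Y k).hom.op).hom (img c j b) = (c.pt.obj.map (Y k).hom.op).hom y := by
    rw [← img_rs, ← ha k, ← img_tr c w (a k)]
    exact congrArg (img c j) (hb k)
  have := congrArg (c.pt.obj.map v.op).hom e
  simpa [G] using! this

include hc in
/-- The Cech complex of a filtered colimit of sheaves acyclic for a covering family is acyclic. -/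
theorem exactAt_cech {U : C} {ι : Type u} (Y : ι → Over U) (hY : P.Cov U ι Y) (p : ℕ)
    (h : ∀ i, (SiteBase.cechCx (Over.forget U) Y (D.obj i)).ExactAt (p + 1)) :
    (SiteBase.cechCx (Over.forget U) Y c.pt).ExactAt (p + 1) := by
  obtain ⟨hfin, -, -, hB⟩ := P.h1 U ι Y hY
  classical
  cases nonempty_fintype ι
  let K (i : I) := SiteBase.cechCx (Over.forget U) Y (D.obj i)
  let KC := SiteBase.cechCx (Over.forget U) Y c.pt
  let f (i : I) : K i ⟶ KC := (cechComplexFunctor Y).map (Functor.whiskerLeft (Over.forget U).op (c.ι.app i).hom)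
  let t {i j : I} (w : i ⟶ j) : K i ⟶ K j :=
    (cechComplexFunctor Y).map (Functor.whiskerLeft (Over.forget U).op (D.map w).hom)
  have hft : ∀ {i j : I} (w : i ⟶ j) (n : ℕ) (a : (K i).X n), ((f j).f n).hom (((t w).f n).hom a) = ((f i).f n).hom a := by
    intro i j w n a
    refine SiteBase.cev_ext Y _ fun b => ?_
    rw [SiteBase.cev_map, SiteBase.cev_map, SiteBase.cev_map]
    exact img_tr c w _
  have hd : ∀ {A B : CochainComplex AddCommGrpCat.{u} ℕ} (g : A ⟶ B) (m n : ℕ) (a : A.X m),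
      (B.d m n).hom ((g.f m).hom a) = (g.f n).hom ((A.d m n).hom a) := fun g m n a =>
    ConcreteCategory.congr_hom (g.comm m n) a
  rw [HomologicalComplex.exactAt_iff' _ p (p + 1) (p + 1 + 1) (by simp) (by simp), ShortComplex.ab_exact_iff]
  intro z (hz : (KC.d (p + 1) (p + 1 + 1)).hom z = 0)
  choose i₀ a₀ ha₀ using fun b : Fin (p + 1 + 1) → ι => exists_rep hc P (hB _ b) (SiteBase.cev Y _ (p + 1) b z)
  obtain ⟨i, hi⟩ := IsFiltered.sup_objs_exists (Finset.univ.image i₀)
  obtain ⟨y, hy⟩ := SiteBase.exists_cev Y ((Over.forget U).op ⋙ (D.obj i).obj)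
    (fun b => tr (hi (Finset.mem_image_of_mem i₀ (Finset.mem_univ b))).some (a₀ b))
  have hfy : ((f i).f (p + 1)).hom y = z := by
    refine SiteBase.cev_ext Y _ fun b => ?_
    rw [SiteBase.cev_map, hy b]
    exact (img_tr c _ _).trans (ha₀ b)
  obtain ⟨j, w, hw⟩ := exists_common
    (fun (b : Fin (p + 1 + 1 + 1) → ι) j (w : i ⟶ j) =>
      tr w (SiteBase.cev Y ((Over.forget U).op ⋙ (D.obj i).obj) (p + 1 + 1) b (((K i).d (p + 1) (p + 1 + 1)).hom y)) = 0)
    (fun b j l w v h => by rw [← tr_tr, h]; exact map_zero _) fun b => exists_tr_zero hc P (hB _ b) _ (by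
      refine (SiteBase.cev_map Y _ (Functor.whiskerLeft (Over.forget U).op (c.ι.app i).hom) _ b _).symm.trans ?_
      refine (congrArg (SiteBase.cev Y _ (p + 1 + 1) b)
        (((hd (f i) (p + 1) (p + 1 + 1) y).symm.trans (congrArg (KC.d (p + 1) (p + 1 + 1)).hom hfy)).trans hz)).trans ?_
      exact map_zero _)
  have hdy : ((K j).d (p + 1) (p + 1 + 1)).hom (((t w).f (p + 1)).hom y) = 0 := by
    refine SiteBase.cev_ext Y _ fun b => ?_
    rw [hd (t w), SiteBase.cev_map, map_zero]
    exact hw b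
  obtain ⟨v, hv⟩ := SiteBase.exists_preimage_of_exactAt (h j) _ hdy
  refine ⟨((f j).f p).hom v, ?_⟩
  show (KC.d p (p + 1)).hom _ = z
  rw [hd (f j), hv, hft, hfy]

end Groth.Agent.DSites.CollColim
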