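import Groth.Agent.ToposFinLib.Tame
import Groth.Agent.DSites.CollColim.Ext

/-!
# Cohomology and filtered colimits for a class of quasi-compact sheaves of sets covering its fibre products
-/

set_option autoImplicit false
set_option backward.isDefEq.respectTransparency false
set_option linter.unusedVariables false
set_option linter.unusedSectionVars false

universe u

open CategoryTheory CategoryTheory.Limits Opposite ToposFin Simplicial Abelian Groth.Agent.SiteBase Groth.Agent.ToposFinLib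

namespace Groth.Agent.DSites.QCClass

variable {C : Type u} [SmallCategory C] {J : GrothendieckTopology C} (S : Set (Sh J))

/-- Covered by a member of the class. -/
def Covd (X : Sh J) : Prop := ∃ (K : Sh J) (p : K ⟶ X), K ∈ S ∧ Epi p

/-- Covered, with covered equalizers of pairs of maps from members of the class. -/
structure Good (X : Sh J) : Prop where
  covd : Covd S X
  sep : ∀ K ∈ S, ∀ a b : K ⟶ X, Covd S (equalizer a b)

/-- Vanishing of the Cech cohomology of covers of good objects. -/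
def GoodKill (G : Sheaf J AddCommGrpCat.{u}) : Prop :=
  ∀ (K' K : Sh J) (f : K' ⟶ K), Good S K → Good S K' → Epi f → CechKill G (nerve f)

variable {S}

theorem epi_pullback_fst {A B X : Sh J} (a : A ⟶ X) (b : B ⟶ X) [Epi b] : Epi (pullback.fst a b) :=
  epi_of_cov ((cov_of_epi.{u} b).pullback_fst a)

/-- Lifting along an epimorphism, up to an epimorphism. -/
theorem exists_lift_epi {F X T : Sh J} (p : F ⟶ X) [Epi p] (x : T ⟶ X) :
    ∃ (T' : Sh J) (e : T' ⟶ T) (_ : Epi e) (y : T' ⟶ F), y ≫ p = e ≫ x :=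
  ⟨_, pullback.fst x p, epi_pullback_fst x p, pullback.snd x p, pullback.condition.symm⟩

theorem Good.of_iso {X Y : Sh J} (h : Good S X) (e : X ≅ Y) : Good S Y := by
  refine ⟨?_, fun K hK a b => ?_⟩
  · obtain ⟨K, p, hK, hp⟩ := h.covd
    exact ⟨K, p ≫ e.hom, hK, inferInstance⟩
  · obtain ⟨K', p, hK', hp⟩ := h.sep K hK (a ≫ e.inv) (b ≫ e.inv)
    let m : equalizer (a ≫ e.inv) (b ≫ e.inv) ⟶ equalizer a b := equalizer.lift (equalizer.ι _ _) (by
      rw [← cancel_mono e.inv, Category.assoc, Category.assoc, equalizer.condition])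
    let m' : equalizer a b ⟶ equalizer (a ≫ e.inv) (b ≫ e.inv) := equalizer.lift (equalizer.ι a b)
      (equalizer.condition_assoc a b e.inv)
    have : Epi m := by
      have : m' ≫ m = 𝟙 _ := equalizer.hom_ext (by simp [m, m'])
      exact epi_of_epi_fac this
    exact ⟨K', p ≫ m, hK', epi_comp _ _⟩

variable (h2 : ∀ (F : Sh J) (K : Sh J) (g : F ⟶ K), K ∈ S → Epi g →
      ∃ (K' : Sh J) (k : K' ⟶ F), K' ∈ S ∧ Epi (k ≫ g))
  (h3 : ∀ K ∈ S, ∀ K' ∈ S, ∃ (K'' : Sh J) (g : K'' ⟶ K ⨯ K'), K'' ∈ S ∧ Epi g)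
  (h4 : ∀ K ∈ S, ∀ K' ∈ S, ∀ (a b : K ⟶ K'), ∃ (K'' : Sh J) (g : K'' ⟶ equalizer a b), K'' ∈ S ∧ Epi g)
  (h5 : ∀ K ∈ S, CohCx.IsQcObject K)

include h4 in
theorem good_of_mem {K : Sh J} (hK : K ∈ S) : Good S K :=
  ⟨⟨K, 𝟙 K, hK, inferInstance⟩, fun K' hK' a b => h4 K' hK' K hK a b⟩

theorem good_terminal (h1 : ∃ K ∈ S, Epi (terminal.from K)) : Good S (⊤_ (Sh J)) := by
  obtain ⟨K, hK, hp⟩ := h1
  refine ⟨⟨K, _, hK, hp⟩, fun K' hK' a b => ?_⟩
  obtain rfl : a = b := Subsingleton.elim _ _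
  refine ⟨K', equalizer.lift (𝟙 K') rfl, hK', ?_⟩
  have : equalizer.ι a a ≫ equalizer.lift (𝟙 K') rfl = 𝟙 _ := equalizer.hom_ext (by simp)
  exact epi_of_epi_fac this

include h3 in
theorem Good.pullback {X A B : Sh J} (hX : Good S X) (hA : Good S A) (hB : Good S B) (a : A ⟶ X) (b : B ⟶ X) :
    Good S (Limits.pullback a b) := by
  refine ⟨?_, fun K hK u v => ?_⟩
  · obtain ⟨KA, pA, hKA, hpA⟩ := hA.covd
    obtain ⟨KB, pB, hKB, hpB⟩ := hB.covd
    obtain ⟨C₀, c, hC₀, hc⟩ := h3 KA hKA KB hKB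
    obtain ⟨C₁, d, hC₁, hd⟩ := hX.sep C₀ hC₀ ((c ≫ prod.fst) ≫ pA ≫ a) ((c ≫ prod.snd) ≫ pB ≫ b)
    let m : C₁ ⟶ Limits.pullback a b := pullback.lift ((d ≫ equalizer.ι _ _) ≫ (c ≫ prod.fst) ≫ pA)
      ((d ≫ equalizer.ι _ _) ≫ (c ≫ prod.snd) ≫ pB) (by
        have := congrArg (d ≫ ·) (equalizer.condition ((c ≫ prod.fst) ≫ pA ≫ a) ((c ≫ prod.snd) ≫ pB ≫ b))
        simpa only [Category.assoc] using this)
    refine ⟨C₁, m, hC₁, ?_⟩
    obtain ⟨T₁, e₁, _, x, hx⟩ := exists_lift_epi pA (pullback.fst a b)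
    obtain ⟨T₂, e₂, _, y, hy⟩ := exists_lift_epi pB (e₁ ≫ pullback.snd a b)
    obtain ⟨T₃, e₃, _, z, hz⟩ := exists_lift_epi c (prod.lift (e₂ ≫ x) y)
    have hz₁ : z ≫ c ≫ prod.fst ≫ pA = e₃ ≫ e₂ ≫ e₁ ≫ pullback.fst a b := by
      rw [← reassoc_of% hz.symm, prod.lift_fst_assoc, Category.assoc, hx]
    have hz₂ : z ≫ c ≫ prod.snd ≫ pB = e₃ ≫ e₂ ≫ e₁ ≫ pullback.snd a b := by
      rw [← reassoc_of% hz.symm, prod.lift_snd_assoc, hy]
    obtain ⟨T₄, e₄, _, w, hw⟩ := exists_lift_epi d (equalizer.lift z (by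
      simp only [Category.assoc]
      rw [reassoc_of% hz₁, reassoc_of% hz₂, pullback.condition]))
    have hw' := congrArg (· ≫ equalizer.ι _ _) hw
    simp only [Category.assoc, equalizer.lift_ι] at hw'
    have h : w ≫ m = e₄ ≫ e₃ ≫ e₂ ≫ e₁ := by
      apply pullback.hom_ext
      · simp only [m, Category.assoc, pullback.lift_fst]
        rw [reassoc_of% hw', hz₁]
      · simp only [m, Category.assoc, pullback.lift_snd]
        rw [reassoc_of% hw', hz₂]
    exact epi_of_epi_fac h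
  · obtain ⟨C₁, d₁, hC₁, hd₁⟩ := hA.sep K hK (u ≫ pullback.fst a b) (v ≫ pullback.fst a b)
    let i₁ := d₁ ≫ equalizer.ι _ _
    obtain ⟨C₂, d₂, hC₂, hd₂⟩ := hB.sep C₁ hC₁ (i₁ ≫ u ≫ pullback.snd a b) (i₁ ≫ v ≫ pullback.snd a b)
    let i₂ := d₂ ≫ equalizer.ι _ _
    let m : C₂ ⟶ equalizer u v := equalizer.lift (i₂ ≫ i₁) (by
      apply pullback.hom_ext
      · simp only [i₂, i₁, Category.assoc]
        rw [equalizer.condition (u ≫ pullback.fst a b) (v ≫ pullback.fst a b)]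
      · simp only [i₂, Category.assoc]
        rw [equalizer.condition (i₁ ≫ u ≫ pullback.snd a b) (i₁ ≫ v ≫ pullback.snd a b)])
    refine ⟨C₂, m, hC₂, ?_⟩
    obtain ⟨T₁, e₁, _, x, hx⟩ := exists_lift_epi d₁
      (equalizer.lift (equalizer.ι u v) (equalizer.condition_assoc u v (pullback.fst a b)))
    have hx' : x ≫ i₁ = e₁ ≫ equalizer.ι u v := by
      rw [← Category.assoc, hx, Category.assoc, equalizer.lift_ι]
    obtain ⟨T₂, e₂, _, y, hy⟩ := exists_lift_epi d₂ (equalizer.lift x (by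
      rw [reassoc_of% hx', reassoc_of% hx', equalizer.condition_assoc]))
    have hy' : y ≫ i₂ = e₂ ≫ x := by
      rw [← Category.assoc, hy, Category.assoc, equalizer.lift_ι]
    have h : y ≫ m = e₂ ≫ e₁ := by
      refine equalizer.hom_ext ?_
      simp only [m, Category.assoc, equalizer.lift_ι]
      rw [reassoc_of% hy', hx']
    exact epi_of_epi_fac h

include h3 in
theorem good_widePullback {K K' : Sh J} (hK : Good S K) (f : K' ⟶ K) (h : Good S K') :
    ∀ n : ℕ, Good S (widePullback K (fun _ : Fin (n + 1) => K') (fun _ => f))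
  | 0 => by
    have := isIso_pbπ_zero f
    exact h.of_iso (asIso (WidePullback.π (fun _ : Fin 1 => f) 0)).symm
  | n + 1 => by
    let P := widePullback K (fun _ : Fin (n + 1) => K') (fun _ => f)
    have hP : Good S P := good_widePullback hK f h n
    let a : Limits.pullback (WidePullback.base (fun _ : Fin (n + 1) => f)) f ⟶
        widePullback K (fun _ : Fin (n + 2) => K') (fun _ => f) :=
      WidePullback.lift (pullback.snd _ _ ≫ f)
        (Fin.cons (pullback.snd _ _) fun i => pullback.fst _ _ ≫ WidePullback.π _ i) (by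
          intro i
          refine Fin.cases rfl (fun i => ?_) i
          simp [pullback.condition])
    let b : widePullback K (fun _ : Fin (n + 2) => K') (fun _ => f) ⟶
        Limits.pullback (WidePullback.base (fun _ : Fin (n + 1) => f)) f :=
      pullback.lift (WidePullback.lift (WidePullback.base _) (fun i => WidePullback.π (fun _ : Fin (n + 2) => f) i.succ)
        (fun i => WidePullback.π_arrow _ _)) (WidePullback.π (fun _ : Fin (n + 2) => f) 0) (by simp)
    have hab : a ≫ b = 𝟙 _ := by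
      apply pullback.hom_ext
      · apply WidePullback.hom_ext
        · intro i
          simp [a, b]
        · simp [a, b, pullback.condition]
      · simp [a, b]
    have hba : b ≫ a = 𝟙 _ := by
      apply WidePullback.hom_ext
      · intro i
        refine Fin.cases ?_ (fun i => ?_) i <;> simp [a, b]
      · simp [a, b]
    exact (Good.pullback h3 hK hP h _ f).of_iso ⟨a, b, hab, hba⟩

include h2 h4 in
/-- Covers of good objects refine all epimorphisms. -/
theorem exists_refinement {K : Sh J} (hK : Good S K) {L : Sh J} (f : L ⟶ K) [Epi f] :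
    ∃ (K' : Sh J) (k : K' ⟶ L), Good S K' ∧ Epi (k ≫ f) := by
  obtain ⟨P, p, hP, hp⟩ := hK.covd
  obtain ⟨K', k, hK', hk⟩ := h2 _ P (pullback.fst p f) hP (epi_pullback_fst p f)
  refine ⟨K', k ≫ pullback.snd p f, good_of_mem h4 hK', ?_⟩
  rw [Category.assoc, ← pullback.condition, ← Category.assoc]
  exact epi_comp _ _

include h5 in
theorem isQC_of_good {X : Sh J} (hX : Good S X) : IsQC X := by
  classical
  obtain ⟨K, p, hK, hp⟩ := hX.covd
  refine isQC_of_epi p fun ι F π hπ => ?_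
  obtain ⟨t, ht⟩ := h5 K hK ι F π fun V y =>
    ⟨_, epi_desc_iff.1 hπ y, fun W g ⟨i, z, hz⟩ => ⟨i, z, hz⟩⟩
  refine ⟨t, epi_desc_iff.2 fun V y => ?_⟩
  obtain ⟨T, hT, h⟩ := ht V y
  refine J.superset_covering (fun W g hg => ?_) hT
  obtain ⟨i, z, hz⟩ := h W g hg
  exact ⟨i, z, hz⟩

include h2 h3 h4 in
theorem exists_lift_of_goodKill {E : ShortComplex (Sheaf J AddCommGrpCat.{u})} (hE : E.ShortExact) (h₁ : GoodKill S E.X₁)
    (K : Sheaf J (Type u)) (hK : Good S K) (φ : freeSh K ⟶ E.X₃) : ∃ ψ, ψ ≫ E.g = φ := by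
  let Φ := sheafCompose J (CategoryTheory.forget AddCommGrpCat.{u})
  have hloc : Sheaf.IsLocallySurjective E.g := (Sheaf.isLocallySurjective_iff_epi' _ E.g).2 hE.epi_g
  let φ' : K ⟶ Φ.obj E.X₃ := freeShEquiv K E.X₃ φ
  have : Epi (pullback.fst φ' (Φ.map E.g)) := by
    have : Sheaf.IsLocallySurjective (pullback.fst φ' (Φ.map E.g)) := ⟨fun {U} s => by
      refine J.superset_covering ?_ (hloc.imageSieve_mem (φ'.hom.app (op U) s))
      rintro V g ⟨t, ht⟩
      let a : hSheaf J V ⟶ K := (secT V K).symm (K.obj.map g.op s)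
      let b : hSheaf J V ⟶ Φ.obj E.X₂ := (secT V (Φ.obj E.X₂)).symm t
      have hab : a ≫ φ' = b ≫ Φ.map E.g := (secT V (Φ.obj E.X₃)).injective (by
        rw [secT_comp, secT_comp, Equiv.apply_symm_apply, Equiv.apply_symm_apply]
        exact (ConcreteCategory.congr_hom (φ'.hom.naturality g.op) s).trans ht.symm)
      refine ⟨secT V _ (pullback.lift a b hab), (secT_comp V _ (pullback.fst φ' (Φ.map E.g))).symm.trans ?_⟩
      rw [pullback.lift_fst, Equiv.apply_symm_apply]⟩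
    exact (Sheaf.isLocallySurjective_iff_epi _).1 this
  obtain ⟨K', k, hK', hf⟩ := exists_refinement h2 h4 hK (pullback.fst φ' (Φ.map E.g))
  let f : K' ⟶ K := k ≫ pullback.fst φ' (Φ.map E.g)
  have : Epi f := hf
  have := epi_augSh f
  let p : pb0 f ⟶ K' := WidePullback.π (fun _ : Fin 1 => f) 0
  let ψ₀ : (freeShChain (nerve f)).X 0 ⟶ E.X₂ :=
    (freeShEquiv (pb0 f) E.X₂).symm (p ≫ k ≫ pullback.snd φ' (Φ.map E.g))
  have hψ₀ : ψ₀ ≫ E.g = augSh f ≫ φ := by
    apply (freeShEquiv (pb0 f) E.X₃).injective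
    refine (freeShEquiv_comp ψ₀ E.g).trans (Eq.trans ?_ (freeShEquiv_precomp _ φ).symm)
    refine (congrArg (· ≫ Φ.map E.g) (Equiv.apply_symm_apply _ _)).trans ?_
    refine Eq.trans ?_ (congrArg (· ≫ φ') (WidePullback.π_arrow (fun _ : Fin 1 => f) 0))
    simp only [p, f, Category.assoc, pullback.condition]
  have := hE.mono_f
  have hw : ((freeShChain (nerve f)).d 1 0 ≫ ψ₀) ≫ E.g = 0 := by
    rw [Category.assoc, hψ₀, ← Category.assoc, d_comp_augSh, zero_comp]
  obtain ⟨b, hb⟩ := h₁ _ _ f hK hK' hf 0 (hE.exact.lift _ hw) (by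
    rw [← cancel_mono E.f, Category.assoc, hE.exact.lift_f, zero_comp, ← Category.assoc,
      HomologicalComplex.d_comp_d, zero_comp])
  obtain ⟨ψ, hψ⟩ := exists_desc f (ψ₀ - b ≫ E.f) (by
    rw [Preadditive.comp_sub, sub_eq_zero, ← Category.assoc, hb, hE.exact.lift_f])
  refine ⟨ψ, (cancel_epi (augSh f)).1 ?_⟩
  rw [← Category.assoc, hψ, Preadditive.sub_comp, Category.assoc, E.zero, comp_zero, sub_zero, hψ₀]

include h2 h3 h4 in
theorem goodKill_X₃ {E : ShortComplex (Sheaf J AddCommGrpCat.{u})} (hE : E.ShortExact) (h₁ : GoodKill S E.X₁) (h₂ : GoodKill S E.X₂) :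
    GoodKill S E.X₃ := by
  intro K' K f hK hK' hf n w hw
  have := hE.mono_f
  obtain ⟨w₂, rfl⟩ : ∃ ψ : (freeShChain (nerve f)).X (n + 1) ⟶ E.X₂, ψ ≫ E.g = w :=
    exists_lift_of_goodKill h2 h3 h4 hE h₁ ((nerve f).left.obj (op ⦋n + 1⦌)) (good_widePullback h3 hK f hK' (n + 1)) w
  have hv : ((freeShChain (nerve f)).d (n + 2) (n + 1) ≫ w₂) ≫ E.g = 0 := by rw [Category.assoc, hw]
  have hv' : (freeShChain (nerve f)).d (n + 3) (n + 2) ≫ hE.exact.lift _ hv = 0 := by
    rw [← cancel_mono E.f, Category.assoc, hE.exact.lift_f, zero_comp, ← Category.assoc,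
      HomologicalComplex.d_comp_d, zero_comp]
  obtain ⟨b₁, hb₁⟩ := h₁ K' K f hK hK' hf (n + 1) _ hv'
  obtain ⟨b₂, hb₂⟩ := h₂ K' K f hK hK' hf n (w₂ - b₁ ≫ E.f) (by
    rw [Preadditive.comp_sub, sub_eq_zero, ← Category.assoc, hb₁, hE.exact.lift_f])
  refine ⟨b₂ ≫ E.g, ?_⟩
  rw [← Category.assoc, hb₂, Preadditive.sub_comp, Category.assoc, E.zero, comp_zero, sub_zero]

include h2 h3 h4 in
theorem subsingleton_ext_of_goodKill (G : Sheaf J AddCommGrpCat.{u}) (hG : GoodKill S G) (K : Sh J) (hK : Good S K) (q : ℕ) :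
    Subsingleton (Ext (freeSh K) G (q + 1)) := by
  induction q generalizing G with
  | zero =>
    obtain ⟨E, hE, hI, rfl⟩ : ∃ E : ShortComplex (Sheaf J AddCommGrpCat.{u}),
        E.ShortExact ∧ Injective E.X₂ ∧ E.X₁ = G :=
      ⟨injectiveSES G, injectiveSES_shortExact G, inferInstance, injectiveSES_X₁ G⟩
    exact subsingleton_ext_one_X₁ _ hE (Ext.subsingleton_of_injective _ E.X₂ 0)
      (exists_lift_of_goodKill h2 h3 h4 hE hG K hK)
  | succ q ih =>
    obtain ⟨E, hE, hI, rfl⟩ : ∃ E : ShortComplex (Sheaf J AddCommGrpCat.{u}),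
        E.ShortExact ∧ Injective E.X₂ ∧ E.X₁ = G :=
      ⟨injectiveSES G, injectiveSES_shortExact G, inferInstance, injectiveSES_X₁ G⟩
    exact subsingleton_ext_X₁ _ hE (q + 1) (Ext.subsingleton_of_injective _ E.X₂ (q + 1))
      (ih E.X₃ (goodKill_X₃ h2 h3 h4 hE hG fun K' K f _ _ _ =>
        cechKill_of_injective (sheafNerveLike_nerve f) E.X₂))

section Colimit

variable {Λ : Type u} [SmallCategory Λ] [IsFiltered Λ] (D : Λ ⥤ Sheaf J AddCommGrpCat.{u})

include h2 h3 h4 h5 in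
theorem exists_stage_factor {X : Sh J} (hX : Good S X) {E : Λ ⥤ Sh J} {c : Cocone E} (hc : IsColimit c)
    (y : X ⟶ c.pt) : ∃ (i : Λ) (h : X ⟶ E.obj i), h ≫ c.ι.app i = y := by
  classical
  obtain ⟨s, hs⟩ := isQC_iff.1 (isQC_of_good h5 hX) _ _ _ ((cov_ι_of_isColimit hc).pullback_snd y)
  let L : s → Sh J := fun i => Limits.pullback (c.ι.app i.1) y
  have hepi : Epi (Sigma.desc fun i : s => pullback.snd (c.ι.app i.1) y) := epi_desc_iff.2 hs
  obtain ⟨j, hj⟩ := IsFiltered.sup_objs_exists (Finset.univ.image fun i : s => i.1)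
  let g : ∐ L ⟶ E.obj j := Sigma.desc fun i : s =>
    pullback.fst (c.ι.app i.1) y ≫ E.map (hj (Finset.mem_image_of_mem _ (Finset.mem_univ i))).some
  have hg : g ≫ c.ι.app j = (Sigma.desc fun i : s => pullback.snd (c.ι.app i.1) y) ≫ y :=
    Sigma.hom_ext _ _ fun i => by
      refine Eq.trans ?_ ((congrArg (· ≫ y) (Sigma.ι_desc (fun i : s => pullback.snd (c.ι.app i.1) y) i)).symm.trans (Category.assoc _ _ _))
      simp [g, c.w, pullback.condition]
  obtain ⟨K', k, hK', hk⟩ := exists_refinement h2 h4 hX (Sigma.desc fun i : s => pullback.snd (c.ι.app i.1) y)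
  let p := k ≫ Sigma.desc fun i : s => pullback.snd (c.ι.app i.1) y
  have hq : (k ≫ g) ≫ c.ι.app j = p ≫ y := by simp only [p, Category.assoc, hg]
  obtain ⟨l, v, hv⟩ := exists_stage_eq (isQC_of_good h5 (Good.pullback h3 hX hK' hK' p p)) hc j
    (pullback.fst p p ≫ k ≫ g) (pullback.snd p p ≫ k ≫ g)
    (by rw [Category.assoc, Category.assoc _ (k ≫ g), hq, pullback.condition_assoc])
  obtain ⟨h, hh⟩ := (cov_of_epi.{u} p).exists_desc (fun _ => (k ≫ g) ≫ E.map v) fun a b => by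
    simpa only [Category.assoc] using hv
  refine ⟨l, h, (cov_of_epi.{u} p).hom_ext fun u => ?_⟩
  rw [← Category.assoc, hh u, Category.assoc, c.w, hq]

include h2 h3 h4 h5 in
theorem exists_hom_stage {K : Sh J} (hK : Good S K) {c : Cocone D} (hc : IsColimit c) (φ : freeSh K ⟶ c.pt) :
    ∃ (i : Λ) (ψ : freeSh K ⟶ D.obj i), ψ ≫ c.ι.app i = φ := by
  obtain ⟨i, a, ha⟩ := exists_stage_factor h2 h3 h4 h5 hK
    (isColimitOfPreserves (underlying J) hc) (freeShEquiv K c.pt φ)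
  refine ⟨i, (freeShEquiv K (D.obj i)).symm a, (freeShEquiv K c.pt).injective ?_⟩
  rw [freeShEquiv_comp, Equiv.apply_symm_apply]
  exact ha

include h2 h3 h4 h5 in
theorem goodKill_colimit (hD : ∀ i, Injective (D.obj i)) {c : Cocone D} (hc : IsColimit c) : GoodKill S c.pt := by
  intro K' K f hK hK' hf n w hw
  obtain ⟨i, w₀, hw₀⟩ := exists_hom_stage h2 h3 h4 h5 D
    (K := (nerve f).left.obj (op ⦋n + 1⦌)) (good_widePullback h3 hK f hK' (n + 1)) hc w
  obtain ⟨j, u, hu⟩ := exists_hom_stage_eq D (K := (nerve f).left.obj (op ⦋n + 2⦌))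
    (isQC_of_good h5 (good_widePullback h3 hK f hK' (n + 2))) hc i ((freeShChain (nerve f)).d (n + 2) (n + 1) ≫ w₀) 0
    ((Category.assoc _ _ _).trans (((congrArg ((freeShChain (nerve f)).d (n + 2) (n + 1) ≫ ·) hw₀).trans hw).trans
      zero_comp.symm))
  have := hD j
  obtain ⟨b, hb⟩ := cechKill_of_injective (sheafNerveLike_nerve f) (D.obj j) n (w₀ ≫ D.map u)
    ((Category.assoc _ _ _).symm.trans (hu.trans zero_comp))
  refine ⟨b ≫ c.ι.app j, ?_⟩
  rw [← Category.assoc, hb, Category.assoc, c.w, hw₀]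

include h2 h3 h4 h5 in
/-- `Ext^q(ℤ[K], -)` commutes with filtered colimits for good `K`. -/
theorem comm_good {K : Sh J} (hK : Good S K) (q : ℕ) : Comm (freeSh K) q D := by
  refine CollColim.comm_of_vanishing (fun D => ?_) (fun E hE q => ?_) q D
  · refine ⟨fun x => ?_, fun i y hy => ?_⟩
    · obtain ⟨φ, rfl⟩ := (Ext.mk₀_bijective _ _).2 x
      obtain ⟨i, ψ, hψ⟩ := exists_hom_stage h2 h3 h4 h5 D hK (colimit.isColimit D) φ
      exact ⟨i, Ext.mk₀ ψ, by rw [Ext.mk₀_comp_mk₀]; exact congrArg Ext.mk₀ hψ⟩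
    · obtain ⟨φ, rfl⟩ := (Ext.mk₀_bijective _ _).2 y
      rw [Ext.mk₀_comp_mk₀, ← Ext.mk₀_zero] at hy
      obtain ⟨j, u, hu⟩ := exists_hom_stage_eq D (isQC_of_good h5 hK) (colimit.isColimit D) i φ 0
        (((Ext.mk₀_bijective _ _).1 hy).trans zero_comp.symm)
      exact ⟨j, u, by rw [Ext.mk₀_comp_mk₀, hu, zero_comp, Ext.mk₀_zero]⟩
  · exact subsingleton_ext_of_goodKill h2 h3 h4 _ (goodKill_colimit h2 h3 h4 h5 E hE (colimit.isColimit E)) K hK q

end Colimit

end Groth.Agent.DSites.QCClass
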