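import Groth.Prelude.Def_CohCx
import Mathlib.CategoryTheory.Sites.LocallyBijective
import Mathlib.CategoryTheory.Limits.ConcreteCategory.Filtered
import Mathlib.CategoryTheory.Limits.Preserves.Filtered

/-!
# Elements of filtered colimits of abelian sheaves, locally at a stage
-/

universe u

set_option autoImplicit false
set_option backward.isDefEq.respectTransparency false
set_option backward.isDefEq.respectTransparency.types false

open CategoryTheory CategoryTheory.Limits Opposite

namespace Groth.Agent.DSites.CollColim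

variable {C : Type u} [SmallCategory C] {J : GrothendieckTopology C} {I : Type u} [SmallCategory I]
  (D : I ⥤ Sheaf J AddCommGrpCat.{u})

/-- Sections at a stage. -/
abbrev sec (i : I) (V : C) : Type u := (D.obj i).obj.obj (op V)

variable {D}

/-- Transition. -/
abbrev tr {i j : I} (w : i ⟶ j) {V : C} (a : sec D i V) : sec D j V := ((D.map w).hom.app (op V)).hom a

/-- Restriction at a stage. -/
abbrev rs (i : I) {V W : C} (g : W ⟶ V) (a : sec D i V) : sec D i W := ((D.obj i).obj.map g.op).hom a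

/-- Image in the colimit. -/
abbrev img (c : Cocone D) (i : I) {V : C} (a : sec D i V) : c.pt.obj.obj (op V) :=
  ((c.ι.app i).hom.app (op V)).hom a

lemma tr_rs {i j : I} (w : i ⟶ j) {V W : C} (g : W ⟶ V) (a : sec D i V) : tr w (rs i g a) = rs j g (tr w a) :=
  ConcreteCategory.congr_hom ((D.map w).hom.naturality g.op) a

lemma tr_tr {i j k : I} (v : i ⟶ j) (w : j ⟶ k) {V : C} (a : sec D i V) : tr w (tr v a) = tr (v ≫ w) a := by
  show _ = ((D.map (v ≫ w)).hom.app (op V)).hom a
  rw [D.map_comp]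
  rfl

lemma img_rs (c : Cocone D) (i : I) {V W : C} (g : W ⟶ V) (a : sec D i V) :
    img c i (rs i g a) = (c.pt.obj.map g.op).hom (img c i a) :=
  ConcreteCategory.congr_hom ((c.ι.app i).hom.naturality g.op) a

lemma img_tr (c : Cocone D) {i j : I} (w : i ⟶ j) {V : C} (a : sec D i V) : img c j (tr w a) = img c i a :=
  congrArg (fun φ : D.obj i ⟶ c.pt => (φ.hom.app (op V)).hom a) (c.w w)

variable [IsFiltered I]

/-- Finitely many eventual properties hold at one stage. -/
theorem exists_common {i : I} {K : Type*} [Finite K] (Q : K → ∀ j, (i ⟶ j) → Prop)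
    (hQ : ∀ k j l (w : i ⟶ j) (v : j ⟶ l), Q k j w → Q k l (w ≫ v)) (h : ∀ k, ∃ j w, Q k j w) :
    ∃ j w, ∀ k, Q k j w := by
  classical
  cases nonempty_fintype K
  suffices key : ∀ s : Finset K, ∃ j w, ∀ k ∈ s, Q k j w by
    obtain ⟨j, w, hw⟩ := key Finset.univ
    exact ⟨j, w, fun k => hw k (Finset.mem_univ k)⟩
  intro s
  induction s using Finset.induction with
  | empty => exact ⟨i, 𝟙 i, fun k hk => absurd hk (Finset.notMem_empty k)⟩
  | insert k s _ ih =>
    obtain ⟨j, w, hw⟩ := ih
    obtain ⟨j', w', hw'⟩ := h k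
    obtain ⟨l, v, v', hv⟩ := IsFiltered.span w w'
    refine ⟨l, w ≫ v, fun a ha => ?_⟩
    rcases Finset.mem_insert.1 ha with rfl | ha
    · rw [hv]
      exact hQ _ _ _ w' v' hw'
    · exact hQ _ _ _ w v (hw a ha)

variable {c : Cocone D} (hc : IsColimit c)

omit [IsFiltered I] in
include hc in
/-- The presheaf colimit is locally bijective to the colimit. -/
theorem W_desc : J.W (colimit.desc (D ⋙ sheafToPresheaf J AddCommGrpCat.{u})
    ((sheafToPresheaf J AddCommGrpCat.{u}).mapCocone c)) := by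
  rw [J.W_iff_isIso_map_of_adjunction (sheafificationAdjunction J AddCommGrpCat.{u})]
  let G := sheafToPresheaf J AddCommGrpCat.{u}
  let L := presheafToSheaf J AddCommGrpCat.{u}
  have : PreservesColimit D (G ⋙ L) :=
    preservesColimit_of_natIso D (asIso (sheafificationAdjunction J AddCommGrpCat.{u}).counit).symm
  let e := IsColimit.coconePointUniqueUpToIso (isColimitOfPreserves L (colimit.isColimit (D ⋙ G)))
    (isColimitOfPreserves (G ⋙ L) hc)
  have he : L.map (colimit.desc (D ⋙ G) (G.mapCocone c)) = e.hom := by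
    refine (isColimitOfPreserves L (colimit.isColimit (D ⋙ G))).hom_ext fun j => ?_
    rw [IsColimit.comp_coconePointUniqueUpToIso_hom]
    exact (L.map_comp (colimit.ι (D ⋙ G) j) (colimit.desc (D ⋙ G) (G.mapCocone c))).symm.trans
      (congrArg L.map (colimit.ι_desc (G.mapCocone c) j))
  change IsIso (L.map (colimit.desc (D ⋙ G) (G.mapCocone c)))
  rw [he]
  infer_instance

include hc in
theorem locally_zero {i : I} {V : C} (a : sec D i V) (ha : img c i a = 0) :
    ∃ T ∈ J V, ∀ ⦃W : C⦄ (g : W ⟶ V), T.arrows g → ∃ (j : I) (w : i ⟶ j), tr w (rs i g a) = 0 := by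
  let G := sheafToPresheaf J AddCommGrpCat.{u}
  let φ := colimit.desc (D ⋙ G) (G.mapCocone c)
  have : Presheaf.IsLocallyInjective J φ := ((J.W_iff_isLocallyBijective φ).1 (W_desc hc)).1
  let x : (colimit (D ⋙ G)).obj (op V) := ((colimit.ι (D ⋙ G) i).app (op V)).hom a
  have hx : (φ.app (op V)).hom x = (φ.app (op V)).hom 0 := by
    rw [map_zero]
    exact (ConcreteCategory.congr_hom (NatTrans.congr_app (colimit.ι_desc (G.mapCocone c) i) (op V)) a).trans ha
  refine ⟨_, Presheaf.equalizerSieve_mem J φ x 0 hx, fun W g hg => ?_⟩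
  have hg0 : ((colimit.ι (D ⋙ G) i).app (op W)).hom (rs i g a) = 0 :=
    ((ConcreteCategory.congr_hom ((colimit.ι (D ⋙ G) i).naturality g.op) a).trans hg).trans (map_zero _)
  let E := (evaluation Cᵒᵖ AddCommGrpCat.{u}).obj (op W)
  obtain ⟨j, v, v', hv⟩ := Concrete.isColimit_exists_of_rep_eq _
    (isColimitOfPreserves E (colimit.isColimit (D ⋙ G))) (rs i g a) (0 : sec D i W)
    (hg0.trans (map_zero ((colimit.ι (D ⋙ G) i).app (op W)).hom).symm)
  exact ⟨j, v, hv.trans (map_zero _)⟩

include hc in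
theorem locally_rep {V : C} (y : c.pt.obj.obj (op V)) :
    ∃ T ∈ J V, ∀ ⦃W : C⦄ (g : W ⟶ V), T.arrows g → ∃ (i : I) (a : sec D i W),
      img c i a = (c.pt.obj.map g.op).hom y := by
  let G := sheafToPresheaf J AddCommGrpCat.{u}
  let φ := colimit.desc (D ⋙ G) (G.mapCocone c)
  have : Presheaf.IsLocallySurjective J φ := ((J.W_iff_isLocallyBijective φ).1 (W_desc hc)).2
  refine ⟨_, Presheaf.imageSieve_mem J φ y, fun W g hg => ?_⟩
  obtain ⟨t, ht⟩ := hg
  let E := (evaluation Cᵒᵖ AddCommGrpCat.{u}).obj (op W)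
  obtain ⟨i, a, ha⟩ := Concrete.isColimit_exists_rep _
    (isColimitOfPreserves E (colimit.isColimit (D ⋙ G))) t
  refine ⟨i, a, ?_⟩
  refine (ConcreteCategory.congr_hom (NatTrans.congr_app (colimit.ι_desc (G.mapCocone c) i) (op W)) a).symm.trans ?_
  exact (congrArg (φ.app (op W)).hom ha).trans ht

end Groth.Agent.DSites.CollColim
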